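import Cfsg.Agent.Lib.LFourThree.Basic
import Cfsg.Agent.Lib.LFourThree.StrongII.Tables

/-!
Four by four matrices over three elements as numbers in base three, and the classes of the elements of
order three of `SL(4,3)`.
-/

set_option autoImplicit false
set_option maxRecDepth 100000
set_option linter.style.haveILetI false

namespace CfsgLib.LFourThree.StrongII

open Matrix

/-- A digit. -/
def ent (c k : ℕ) : ℕ := Nat.mod (Nat.div c (Nat.pow 3 k)) 3

/-- The matrix of a code. -/
def dec (c : ℕ) : Matrix (Fin 4) (Fin 4) (ZMod 3) := fun i j => (ent c (4 * i.val + j.val) : ZMod 3)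

/-- The code of a list of digits. -/
def packL : List ℕ → ℕ
  | [] => 0
  | d :: l => Nat.add (Nat.mod d 3) (Nat.mul 3 (packL l))

theorem ent_packL : ∀ (l : List ℕ) (k : ℕ), ent (packL l) k = l.getD k 0 % 3
  | [], k => by
    show 0 / 3 ^ k % 3 = _
    simp
  | d :: l, 0 => by
    show (d % 3 + 3 * packL l) / 3 ^ 0 % 3 = d % 3
    omega
  | d :: l, k + 1 => by
    show (d % 3 + 3 * packL l) / 3 ^ (k + 1) % 3 = l.getD k 0 % 3
    rw [← ent_packL l k, pow_succ', ← Nat.div_div_eq_div_mul,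
      show (d % 3 + 3 * packL l) / 3 = packL l by omega]
    rfl

/-- An entry of a product, not reduced. -/
def dotC (a b i j : ℕ) : ℕ :=
  Nat.add (Nat.add (Nat.mul (ent a (Nat.mul 4 i)) (ent b j))
      (Nat.mul (ent a (Nat.add (Nat.mul 4 i) 1)) (ent b (Nat.add 4 j))))
    (Nat.add (Nat.mul (ent a (Nat.add (Nat.mul 4 i) 2)) (ent b (Nat.add 8 j)))
      (Nat.mul (ent a (Nat.add (Nat.mul 4 i) 3)) (ent b (Nat.add 12 j))))

/-- The product of codes. -/
def mulC (a b : ℕ) : ℕ :=
  packL [dotC a b 0 0, dotC a b 0 1, dotC a b 0 2, dotC a b 0 3, dotC a b 1 0, dotC a b 1 1, dotC a b 1 2,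
    dotC a b 1 3, dotC a b 2 0, dotC a b 2 1, dotC a b 2 2, dotC a b 2 3, dotC a b 3 0, dotC a b 3 1,
    dotC a b 3 2, dotC a b 3 3]

theorem dec_mulC (a b : ℕ) : dec (mulC a b) = dec a * dec b := by
  ext i j
  rw [Matrix.mul_apply, Fin.sum_univ_four]
  show ((ent (mulC a b) (4 * i.val + j.val) : ℕ) : ZMod 3) = _
  rw [mulC, ent_packL]
  fin_cases i <;> fin_cases j <;> simp [dotC, dec, ZMod.natCast_mod] <;> ring

/-- The code of `1`. -/
def oneC : ℕ := 14408200

theorem dec_oneC : dec oneC = 1 := by decide +kernel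

theorem packL_congr : ∀ (l l' : List ℕ), l.length = l'.length →
    (∀ k < l.length, l.getD k 0 % 3 = l'.getD k 0 % 3) → packL l = packL l'
  | [], l', hl, _ => by rw [List.eq_nil_of_length_eq_zero hl.symm]
  | d :: l, [], hl, _ => by simp at hl
  | d :: l, d' :: l', hl, h => by
    have h0 : d % 3 = d' % 3 := h 0 (by simp)
    show d % 3 + 3 * packL l = d' % 3 + 3 * packL l'
    rw [h0, packL_congr l l' (by simpa using hl) fun k hk => h (k + 1) (by simpa using hk)]

theorem dec_packL_inj {l l' : List ℕ} (hl : l.length = 16) (hl' : l'.length = 16)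
    (he : dec (packL l) = dec (packL l')) : packL l = packL l' := by
  refine packL_congr l l' (hl.trans hl'.symm) fun k hk => ?_
  rw [hl] at hk
  have := congrFun (congrFun he ⟨k / 4, by omega⟩) ⟨k % 4, Nat.mod_lt _ (by norm_num)⟩
  simp only [dec, ent_packL, show 4 * (k / 4) + k % 4 = k by omega] at this
  have h' := (ZMod.natCast_eq_natCast_iff' _ _ 3).1 this
  simpa using h'

theorem dec_mulC_inj {a b : ℕ} (h : dec (mulC a b) = 1) : mulC a b = oneC := by
  have h1 : oneC = packL [1, 0, 0, 0, 0, 1, 0, 0, 0, 0, 1, 0, 0, 0, 0, 1] := by decide +kernel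
  rw [h1]
  rw [← dec_oneC, h1] at h
  exact dec_packL_inj rfl rfl h

/-- The determinant of a code. -/
def detC (c : ℕ) : ℕ :=
  let m := fun i j => ent c (4 * i + j)
  let n := fun i j => 2 * (m i j)
  (m 0 0 * (m 1 1 * m 2 2 * m 3 3 + n 1 1 * m 2 3 * m 3 2 + n 1 2 * m 2 1 * m 3 3 + m 1 2 * m 2 3 * m 3 1
      + m 1 3 * m 2 1 * m 3 2 + n 1 3 * m 2 2 * m 3 1)
    + n 0 1 * (m 1 0 * m 2 2 * m 3 3 + n 1 0 * m 2 3 * m 3 2 + n 1 2 * m 2 0 * m 3 3 + m 1 2 * m 2 3 * m 3 0
      + m 1 3 * m 2 0 * m 3 2 + n 1 3 * m 2 2 * m 3 0)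
    + m 0 2 * (m 1 0 * m 2 1 * m 3 3 + n 1 0 * m 2 3 * m 3 1 + n 1 1 * m 2 0 * m 3 3 + m 1 1 * m 2 3 * m 3 0
      + m 1 3 * m 2 0 * m 3 1 + n 1 3 * m 2 1 * m 3 0)
    + n 0 3 * (m 1 0 * m 2 1 * m 3 2 + n 1 0 * m 2 2 * m 3 1 + n 1 1 * m 2 0 * m 3 2 + m 1 1 * m 2 2 * m 3 0
      + m 1 2 * m 2 0 * m 3 1 + n 1 2 * m 2 1 * m 3 0)) % 3

theorem det_dec (c : ℕ) : (dec c).det = (detC c : ZMod 3) := by
  rw [Matrix.det_succ_row_zero, Fin.sum_univ_four, Matrix.det_fin_three, Matrix.det_fin_three,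
    Matrix.det_fin_three, Matrix.det_fin_three]
  simp only [detC, ZMod.natCast_mod]
  push_cast
  simp [Matrix.submatrix_apply, Fin.succAbove, dec]
  rw [show (2 : ZMod 3) = -1 from rfl]
  ring

/-- The element with a given code. -/
def elC (c : ℕ) (h : detC c = 1) : SL4 := ⟨dec c, by rw [det_dec, h, Nat.cast_one]⟩

theorem elC_val (c : ℕ) (h : detC c = 1) : (elC c h).1 = dec c := rfl

/-! ### The classes of elements of order three -/

/-- The digits of an upper unitriangular element. -/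
def uList (n : ℕ) : List ℕ :=
  [1, ent n 0, ent n 1, ent n 2, 0, 1, ent n 3, ent n 4, 0, 0, 1, ent n 5, 0, 0, 0, 1]

/-- An upper unitriangular element. -/
def uCode (n : ℕ) : ℕ := packL (uList n)

/-- A slot of a table. -/
def slot (T b k : ℕ) : ℕ := Nat.mod (Nat.shiftRight T (Nat.mul b k)) (Nat.pow 2 b)

/-- The label. -/
def uLab (n : ℕ) : ℕ := Nat.mod (slot uTab 32 n) 8

/-- The conjugator. -/
def uConj (n : ℕ) : ℕ := Nat.div (slot uTab 32 n) 8

/-- The representatives. -/
def repCode (k : ℕ) : ℕ := [oneC, 14408227, 14585383, 14410396, 14412583].getD k 0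

theorem uTab_spec : (List.range 729).all (fun n =>
    if Nat.beq (uLab n) 7 then !Nat.beq (mulC (mulC (uCode n) (uCode n)) (uCode n)) oneC
    else Nat.blt (uLab n) 5 && Nat.beq (detC (uConj n)) 1 &&
      Nat.beq (mulC (uConj n) (uCode n)) (mulC (repCode (uLab n)) (uConj n))) = true := by decide +kernel

/-- The representatives as elements. -/
def zRep : SL4 := root 0 3 1

/-- An element with one block of size three. -/
def uRep : SL4 := root 0 2 1 * root 2 3 1

/-- An element with two blocks of size two. -/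
def pRep : SL4 := root 0 2 1 * root 1 3 1

/-- The other class with two blocks of size two. -/
def mRep : SL4 := root 0 2 1 * root 1 3 (-1)

theorem rep_vals : (1 : SL4).1 = dec (repCode 0) ∧ zRep.1 = dec (repCode 1) ∧ uRep.1 = dec (repCode 2) ∧
    pRep.1 = dec (repCode 3) ∧ mRep.1 = dec (repCode 4) := by decide +kernel

/-- The upper unitriangular group. -/
def upper : Subgroup SL4 where
  carrier := {g | ∀ i j, j ≤ i → g.1 i j = (1 : Matrix (Fin 4) (Fin 4) (ZMod 3)) i j}
  one_mem' := fun _ _ _ => rfl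
  mul_mem' := by
    intro a b ha hb i j hij
    simp only [Set.mem_ofPred_eq] at ha hb
    show (a.1 * b.1) i j = _
    rw [Matrix.mul_apply, Finset.sum_eq_single i, ha i i le_rfl, hb i j hij, Matrix.one_apply_eq, one_mul]
    · intro k _ hk
      rcases lt_or_gt_of_ne hk with h | h
      · rw [ha i k h.le, Matrix.one_apply_ne h.ne', zero_mul]
      · rw [hb k j (hij.trans h.le), Matrix.one_apply_ne (hij.trans_lt h).ne', mul_zero]
    · simp
  inv_mem' := by
    intro a ha
    simp only [Set.mem_ofPred_eq] at ha ⊢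
    have hpow : ∀ n : ℕ, ∀ i j, j ≤ i → (a ^ n).1 i j = (1 : Matrix (Fin 4) (Fin 4) (ZMod 3)) i j := by
      intro n
      induction n with
      | zero => intro i j _; rfl
      | succ n ih =>
        intro i j hij
        rw [pow_succ, Matrix.SpecialLinearGroup.coe_mul, Matrix.mul_apply, Finset.sum_eq_single i, ih i i le_rfl,
          ha i j hij, Matrix.one_apply_eq, one_mul]
        · intro k _ hk
          rcases lt_or_gt_of_ne hk with h | h
          · rw [ih i k h.le, Matrix.one_apply_ne h.ne', zero_mul]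
          · rw [ha k j (hij.trans h.le), Matrix.one_apply_ne (hij.trans_lt h).ne', mul_zero]
        · simp
    have e : a⁻¹ = a ^ (orderOf a - 1) := inv_eq_of_mul_eq_one_right (by
      rw [← pow_succ', Nat.sub_add_cancel (orderOf_pos a), pow_orderOf_eq_one])
    rw [e]
    exact hpow _

theorem mem_upper {g : SL4} :
    g ∈ upper ↔ ∀ i j, j ≤ i → g.1 i j = (1 : Matrix (Fin 4) (Fin 4) (ZMod 3)) i j := Iff.rfl

theorem uCode_facts : (List.range 729).all (fun n => Nat.beq (detC (uCode n)) 1) = true := by decide +kernel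

theorem uCode_lower : ∀ (i j : Fin 4) (n : Fin 729), j ≤ i →
    dec (uCode n) i j = (1 : Matrix (Fin 4) (Fin 4) (ZMod 3)) i j := by
  intro i j n h
  show ((ent (packL (uList n)) (4 * i.val + j.val) : ℕ) : ZMod 3) = _
  rw [ent_packL, uList]
  fin_cases i <;> fin_cases j <;> simp at h ⊢

theorem uCode_idx : (List.range 729).all (fun n => Nat.beq
    (packL [(dec (uCode n) 0 1).val, (dec (uCode n) 0 2).val, (dec (uCode n) 0 3).val, (dec (uCode n) 1 2).val,
      (dec (uCode n) 1 3).val, (dec (uCode n) 2 3).val]) n) = true := by decide +kernel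

/-- The index of an upper unitriangular element. -/
def uIdx (g : SL4) : ℕ :=
  packL [(g.1 0 1).val, (g.1 0 2).val, (g.1 0 3).val, (g.1 1 2).val, (g.1 1 3).val, (g.1 2 3).val]

theorem uIdx_lt (g : SL4) : uIdx g < 729 := by
  show (g.1 0 1).val % 3 + 3 * ((g.1 0 2).val % 3 + 3 * ((g.1 0 3).val % 3 + 3 * ((g.1 1 2).val % 3 +
    3 * ((g.1 1 3).val % 3 + 3 * ((g.1 2 3).val % 3 + 3 * 0))))) < 729
  omega

theorem dec_uIdx {g : SL4} (hg : g ∈ upper) : dec (uCode (uIdx g)) = g.1 := by
  ext i j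
  show ((ent (packL (uList (uIdx g))) (4 * i.val + j.val) : ℕ) : ZMod 3) = _
  rw [ent_packL, uList, uIdx]
  have hlow := mem_upper.1 hg i j
  fin_cases i <;> fin_cases j <;> simp [ent_packL, ZMod.natCast_mod] at hlow ⊢ <;>
    simp [hlow]

theorem mem_upper_of_code {g : SL4} (h : g.1 = dec (uCode (uIdx g))) : g ∈ upper := fun i j hij => by
  rw [h]
  exact uCode_lower i j ⟨_, uIdx_lt g⟩ hij

theorem card_upper : Nat.card upper = 729 := by
  rw [Nat.card_congr (show upper ≃ Fin 729 from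
    { toFun := fun g => ⟨uIdx g.1, uIdx_lt g.1⟩
      invFun := fun n => ⟨elC (uCode n) (Nat.eq_of_beq_eq_true
          (List.all_eq_true.1 uCode_facts n (List.mem_range.2 n.2))),
        fun i j h => uCode_lower i j n h⟩
      left_inv := fun g => Subtype.ext (Subtype.ext (dec_uIdx g.2))
      right_inv := fun n => Fin.ext (by
        show uIdx (elC (uCode n) (Nat.eq_of_beq_eq_true
          (List.all_eq_true.1 uCode_facts n (List.mem_range.2 n.2)))) = n
        rw [uIdx]
        simp only [elC_val]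
        exact Nat.eq_of_beq_eq_true (List.all_eq_true.1 uCode_idx n (List.mem_range.2 n.2))) }), Nat.card_fin]

theorem card_SL4_fac : Nat.card SL4 = 12130560 := by
  have h := CfsgLib.Classical.sub_one_mul_card_SL (F := ZMod 3) (n := 4) (by norm_num)
  norm_num [Fin.prod_univ_four, ZMod.card] at h
  simp only [← Nat.card_eq_fintype_card] at h
  change Nat.card (Matrix.SpecialLinearGroup (Fin 4) (ZMod 3)) = 12130560
  omega

theorem exists_upper_conj {s : SL4} (hs : s ^ 3 = 1) : ∃ a : SL4, a * s * a⁻¹ ∈ upper := by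
  haveI : Fact (Nat.Prime 3) := ⟨Nat.prime_three⟩
  have hU : IsPGroup 3 upper := IsPGroup.of_card (n := 6) (by rw [card_upper]; norm_num)
  obtain ⟨P, hP⟩ := hU.exists_le_sylow
  have hcard : Nat.card (P : Subgroup SL4) ≤ 729 := by
    obtain ⟨k, hk⟩ := IsPGroup.iff_card.1 P.2
    have hd := (P : Subgroup SL4).card_subgroup_dvd_card
    rw [card_SL4_fac, hk] at hd
    rw [hk]
    rcases Nat.lt_or_ge k 7 with h | h
    · exact (Nat.pow_le_pow_right (by norm_num) (Nat.le_of_lt_succ h)).trans (by norm_num)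
    · exact absurd ((pow_dvd_pow 3 h).trans hd) (by norm_num)
  have hPU : (P : Subgroup SL4) = upper :=
    (Subgroup.eq_of_le_of_card_ge hP (by rw [card_upper]; exact hcard)).symm
  have hz : IsPGroup 3 (Subgroup.zpowers s) := fun x => ⟨1, by
    obtain ⟨k, hk⟩ := x.2
    refine Subtype.ext ?_
    rw [SubgroupClass.coe_pow, ← hk, pow_one, Subgroup.coe_one, ← zpow_natCast, ← _root_.zpow_mul, mul_comm,
      _root_.zpow_mul, zpow_natCast, hs, _root_.one_zpow]⟩
  obtain ⟨Q, hQ⟩ := hz.exists_le_sylow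
  obtain ⟨a, ha⟩ := MulAction.exists_smul_eq SL4 Q P
  refine ⟨a, ?_⟩
  rw [← hPU, ← ha, Sylow.coe_subgroup_smul, ← MulAut.conj_apply]
  exact Subgroup.smul_mem_pointwise_smul _ _ _ (hQ (Subgroup.mem_zpowers s))

/-- The classes of elements of order three. -/
theorem classify {s : SL4} (hs : s ^ 3 = 1) :
    s = 1 ∨ ∃ a : SL4, a * s * a⁻¹ = zRep ∨ a * s * a⁻¹ = uRep ∨ a * s * a⁻¹ = pRep ∨ a * s * a⁻¹ = mRep := by
  obtain ⟨b, hb⟩ := exists_upper_conj hs
  set t := b * s * b⁻¹ with ht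
  have ht3 : t * t * t = 1 := by
    have : t ^ 3 = 1 := by rw [ht, conj_pow, hs, mul_one, mul_inv_cancel]
    rwa [pow_succ, pow_two] at this
  have h := List.all_eq_true.1 uTab_spec _ (List.mem_range.2 (uIdx_lt t))
  set n := uIdx t
  have hval : t.1 = dec (uCode n) := (dec_uIdx hb).symm
  by_cases h7 : Nat.beq (uLab n) 7 = true
  · exfalso
    have hd : dec (mulC (mulC (uCode n) (uCode n)) (uCode n)) = 1 := by
      rw [dec_mulC, dec_mulC, ← hval, ← Matrix.SpecialLinearGroup.coe_mul, ← Matrix.SpecialLinearGroup.coe_mul,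
        ht3, Matrix.SpecialLinearGroup.coe_one]
    rw [if_pos h7] at h
    have e : mulC (mulC (uCode n) (uCode n)) (uCode n) = oneC := dec_mulC_inj hd
    simp [e] at h
  · rw [if_neg h7] at h
    simp only [Bool.and_eq_true, Nat.beq_eq] at h
    obtain ⟨⟨hl, hd⟩, he⟩ := h
    have hl5 : uLab n < 5 := Nat.le_of_ble_eq_true hl
    set g := elC (uConj n) hd
    have key : ∀ r : SL4, r.1 = dec (repCode (uLab n)) → g * b * s * (g * b)⁻¹ = r := by
      intro r hr
      have h1 : g * t = r * g := Subtype.ext (by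
        rw [Matrix.SpecialLinearGroup.coe_mul g t, Matrix.SpecialLinearGroup.coe_mul r g, elC_val, hval, hr,
          ← dec_mulC, ← dec_mulC, he])
      rw [show g * b * s * (g * b)⁻¹ = g * t * g⁻¹ by rw [ht]; group, h1, mul_inv_cancel_right]
    obtain ⟨r0, r1, r2, r3, r4⟩ := rep_vals
    interval_cases hk : uLab n
    · exact Or.inl (conj_eq_one_iff.1 (key 1 r0))
    · exact Or.inr ⟨g * b, Or.inl (key _ r1)⟩
    · exact Or.inr ⟨g * b, Or.inr (Or.inl (key _ r2))⟩
    · exact Or.inr ⟨g * b, Or.inr (Or.inr (Or.inl (key _ r3)))⟩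
    · exact Or.inr ⟨g * b, Or.inr (Or.inr (Or.inr (key _ r4)))⟩

/-- An upper element with label one is conjugate to the root element. -/
theorem exists_conj_z {x : SL4} (hx : x ∈ upper) (hl : uLab (uIdx x) = 1) :
    ∃ a : SL4, a * x * a⁻¹ = zRep := by
  have h := List.all_eq_true.1 uTab_spec _ (List.mem_range.2 (uIdx_lt x))
  rw [hl, if_neg (by decide)] at h
  simp only [Bool.and_eq_true, Nat.beq_eq] at h
  obtain ⟨⟨-, hd⟩, he⟩ := h
  have hx' : x.1 = dec (uCode (uIdx x)) := (dec_uIdx hx).symm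
  generalize uCode (uIdx x) = c at he hx'
  generalize uConj (uIdx x) = k at hd he
  set g := elC k hd with hg
  have h1 : (g * x).1 = (zRep * g).1 := by
    rw [Matrix.SpecialLinearGroup.coe_mul g x, Matrix.SpecialLinearGroup.coe_mul zRep g, hg, elC_val, hx',
      rep_vals.2.1, ← dec_mulC, ← dec_mulC, he]
  have h2 : g * x = zRep * g := Subtype.ext h1
  exact ⟨g, by rw [h2, mul_inv_cancel_right]⟩

theorem rep_sq : zRep.1 * zRep.1 + zRep.1 + 1 = 0 ∧ pRep.1 * pRep.1 + pRep.1 + 1 = 0 ∧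
    mRep.1 * mRep.1 + mRep.1 + 1 = 0 ∧ (1 : SL4).1 * (1 : SL4).1 + (1 : SL4).1 + 1 = 0 := by decide +kernel

/-- An element of order three with a block of size three. -/
theorem exists_conj_u {s : SL4} (hs : s ^ 3 = 1) (hsq : s.1 * s.1 + s.1 + 1 ≠ 0) :
    ∃ a : SL4, a * s * a⁻¹ = uRep := by
  obtain ⟨h1, h2, h3, h4⟩ := rep_sq
  have key : ∀ a r : SL4, a * s * a⁻¹ = r → r.1 * r.1 + r.1 + 1 ≠ 0 := by
    intro a r he h0
    refine hsq ?_
    have e : r.1 * a.1 = a.1 * s.1 := congrArg Subtype.val (show r * a = a * s by rw [← he]; group)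
    have hau : IsUnit a.1 := by rw [Matrix.isUnit_iff_isUnit_det, a.2]; exact isUnit_one
    refine hau.mul_left_cancel ?_
    calc a.1 * (s.1 * s.1 + s.1 + 1) = r.1 * (r.1 * a.1) + r.1 * a.1 + a.1 := by
          rw [mul_add, mul_add, ← mul_assoc, ← e, mul_assoc r.1, e, mul_one]
      _ = (r.1 * r.1 + r.1 + 1) * a.1 := by rw [add_mul, add_mul, one_mul, mul_assoc]
      _ = a.1 * 0 := by rw [h0, zero_mul, mul_zero]
  rcases classify hs with rfl | ⟨a, h | h | h | h⟩
  · exact absurd h4 hsq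
  · exact absurd h1 (key a _ h)
  · exact ⟨a, h⟩
  · exact absurd h2 (key a _ h)
  · exact absurd h3 (key a _ h)

end CfsgLib.LFourThree.StrongII
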