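import Cfsg.Agent.Lib.LFourThree.Control
import Cfsg.Agent.Lib.LFourThree.Invol
import Cfsg.Agent.Lib.LFourThree.StrongII.Code
import Cfsg.Agent.Lib.Coprime.Generation

/-!
A copy of `PSL(4,3)` containing the centraliser of a root element contains the centraliser of an element
with a block of size three.
-/

set_option autoImplicit false
set_option maxRecDepth 100000
set_option linter.style.haveILetI false
set_option linter.unusedSectionVars false

namespace CfsgLib.LFourThree.StrongII

open Matrix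

variable {G : Type*} [Group G]

/-- The setting: a projective image with control of a root element. -/
structure Ctx (φ : SL4 →* G) : Prop where
  ker : φ.ker = Subgroup.center SL4
  zt : ∀ g, g * φ (root 0 3 1) * g⁻¹ ∈ φ.range → g ∈ φ.range

/-- An element whose image is moved into the image only by the image. -/
def ZT (φ : SL4 →* G) (x : SL4) : Prop := ∀ g, g * φ x * g⁻¹ ∈ φ.range → g ∈ φ.range

/-- `-1`. -/
def negOne : SL4 := ⟨-1, by decide +kernel⟩

theorem negOne_mul_self : negOne * negOne = 1 := Subtype.ext (by decide +kernel)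

theorem negOne_mem : negOne ∈ Subgroup.center SL4 :=
  Subgroup.mem_center_iff.2 fun g => Subtype.ext (by
    show g.1 * negOne.1 = negOne.1 * g.1
    show g.1 * (-1) = (-1) * g.1
    rw [mul_neg, neg_mul, mul_one, one_mul])

theorem center_eq {c : SL4} (h : c ∈ Subgroup.center SL4) : c = 1 ∨ c = negOne :=
  (Count.center_cases h).imp (fun e => Subtype.ext e) fun e => Subtype.ext e

variable {φ : SL4 →* G} (D : Ctx φ)
include D

theorem phi_eq_one {a : SL4} : φ a = 1 ↔ a ∈ Subgroup.center SL4 := by rw [← D.ker, MonoidHom.mem_ker]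

theorem phi_negOne : φ negOne = 1 := (phi_eq_one D).2 negOne_mem

theorem lift_three {y : G} (hy : y ∈ φ.range) (h3 : y ^ 3 = 1) : ∃ s : SL4, φ s = y ∧ s ^ 3 = 1 := by
  obtain ⟨t, rfl⟩ := hy
  rw [← map_pow] at h3
  rcases center_eq ((phi_eq_one D).1 h3) with h | h
  · exact ⟨t, rfl, h⟩
  · have hc : Commute t negOne := Subgroup.mem_center_iff.1 negOne_mem t
    refine ⟨t * negOne, by rw [map_mul, phi_negOne D, mul_one], ?_⟩
    rw [hc.mul_pow, h, pow_succ negOne 2, pow_two, negOne_mul_self, one_mul, negOne_mul_self]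

theorem lift_commute {a s : SL4} (hs : s ^ 3 = 1) (h : Commute (φ a) (φ s)) : a * s = s * a := by
  have hc : a * s * a⁻¹ * s⁻¹ ∈ Subgroup.center SL4 := by
    rw [← phi_eq_one D, map_mul, map_mul, map_mul, map_inv, map_inv, h.eq, mul_inv_cancel_right,
      mul_inv_cancel]
  rcases center_eq hc with e | e
  · rw [mul_inv_eq_one, mul_inv_eq_iff_eq_mul] at e
    exact e
  · exfalso
    have e' : a * s * a⁻¹ = negOne * s := mul_inv_eq_iff_eq_mul.1 e
    have h3 : (negOne * s) ^ 3 = 1 := by rw [← e', conj_pow, hs, mul_one, mul_inv_cancel]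
    rw [(show Commute negOne s from (Subgroup.mem_center_iff.1 negOne_mem s).symm).mul_pow, hs, mul_one, pow_succ, pow_two,
      negOne_mul_self, one_mul] at h3
    exact absurd (congrArg Subtype.val h3) (by decide +kernel)

theorem zt_zRep : ZT φ zRep := D.zt

omit D in
theorem ZT.of_conj {x y a : SL4} (h : a * x * a⁻¹ = y) (hy : ZT φ y) : ZT φ x := fun g hg => by
  have h1 : g * (φ a)⁻¹ ∈ φ.range := hy _ (by
    rw [← h, map_mul, map_mul, map_inv]
    simpa [mul_assoc] using hg)
  simpa using mul_mem h1 (show φ a ∈ φ.range from ⟨a, rfl⟩)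

omit D in
theorem ZT.centralizer_le {x : SL4} (h : ZT φ x) : Subgroup.centralizer ({φ x} : Set G) ≤ φ.range :=
  fun g hg => h g (by rw [Subgroup.mem_centralizer_singleton_iff.1 hg, mul_inv_cancel_right]; exact ⟨x, rfl⟩)

theorem zt_of_label {x : SL4} (hx : x ∈ upper) (hl : uLab (uIdx x) = 1) : ZT φ x := by
  obtain ⟨a, ha⟩ := exists_conj_z hx hl
  exact ZT.of_conj ha (zt_zRep D)

omit D in
theorem uRep_val : uRep.1 = !![1, 0, 1, 1; 0, 1, 0, 0; 0, 0, 1, 1; 0, 0, 0, 1] := by decide +kernel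

omit D in
theorem pow_nine_check : ∀ a b c d e f : ZMod 3,
    let M : Matrix (Fin 4) (Fin 4) (ZMod 3) := !![a, b, c, d; 0, e, 0, f; 0, 0, a, c; 0, 0, 0, a]
    M.det = 1 → M * M * M * (M * M * M) * (M * M * M) = 1 ∨
      M * M * M * (M * M * M) * (M * M * M) = -1 := by decide +kernel

omit D in
theorem cent_uRep {s : SL4} (h : s * uRep = uRep * s) :
    s ^ 9 ∈ Subgroup.center SL4 ∧ s * zRep = zRep * s := by
  have hm : s.1 * uRep.1 = uRep.1 * s.1 := congrArg Subtype.val h
  rw [uRep_val] at hm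
  have k := fun i j => congrFun (congrFun hm i) j
  have k12 := k 1 2; have k32 := k 3 2; have k13 := k 1 3; have k33 := k 3 3; have k00 := k 0 0
  have k01 := k 0 1; have k02 := k 0 2; have k03 := k 0 3; have k20 := k 2 0; have k21 := k 2 1
  have k22 := k 2 2; have k23 := k 2 3
  simp [Matrix.mul_apply, Fin.sum_univ_four] at k12 k32 k13 k33 k00 k01 k02 k03 k20 k21 k22 k23
  have e10 : s.1 1 0 = 0 := by linear_combination k12
  have e30 : s.1 3 0 = 0 := by linear_combination k32
  have e12 : s.1 1 2 = 0 := by linear_combination k13 - k12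
  have e32 : s.1 3 2 = 0 := by linear_combination k33 - k32
  have e20 : s.1 2 0 = 0 := by linear_combination -k00 - e30
  have e31 : s.1 3 1 = 0 := by linear_combination k21
  have e21 : s.1 2 1 = 0 := by linear_combination -k01 - e31
  have e22 : s.1 2 2 = s.1 0 0 := by linear_combination -k02 - e32
  have e33 : s.1 3 3 = s.1 0 0 := by linear_combination -k23 + e20 + e22
  have e23 : s.1 2 3 = s.1 0 2 := by linear_combination -k03 - e33
  have hM : s.1 = !![s.1 0 0, s.1 0 1, s.1 0 2, s.1 0 3; 0, s.1 1 1, 0, s.1 1 3;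
      0, 0, s.1 0 0, s.1 0 2; 0, 0, 0, s.1 0 0] := by
    ext i j
    fin_cases i <;> fin_cases j <;> simp [e10, e30, e12, e32, e20, e31, e21, e22, e33, e23]
  refine ⟨?_, Subtype.ext ?_⟩
  · have h9 := pow_nine_check (s.1 0 0) (s.1 0 1) (s.1 0 2) (s.1 0 3) (s.1 1 1) (s.1 1 3)
    simp only at h9
    rw [← hM] at h9
    have e9 : s ^ 9 = s * s * s * (s * s * s) * (s * s * s) := by simp only [pow_succ, pow_zero, one_mul, mul_assoc]
    rcases h9 s.2 with h9 | h9
    · rw [e9, show s * s * s * (s * s * s) * (s * s * s) = 1 from Subtype.ext h9]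
      exact one_mem _
    · rw [e9, show s * s * s * (s * s * s) * (s * s * s) = negOne from Subtype.ext h9]
      exact negOne_mem
  · show s.1 * zRep.1 = zRep.1 * s.1
    rw [show zRep.1 = 1 + Matrix.single 0 3 1 from CfsgLib.Schur.SLFam.coe_tv (by decide) 1, mul_add, add_mul,
      mul_one, one_mul]
    congr 1
    ext i j
    fin_cases i <;> fin_cases j <;>
      simp [Matrix.mul_apply, Fin.sum_univ_four, Matrix.single_apply, e10, e20, e30, e31, e32, e33]

omit D in
theorem eU_facts : ∀ a b : ZMod 3,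
    (root 0 1 a * root 0 3 b * uRep).1 = (uRep * (root 0 1 a * root 0 3 b)).1 ∧
    (root 0 1 a * root 0 3 b).1 = dec (uCode (uIdx (root 0 1 a * root 0 3 b))) ∧
    (a = 0 ∧ b = 0 ∨ uLab (uIdx (root 0 1 a * root 0 3 b)) = 1) := by decide +kernel

omit D in
theorem eU_ne : ∀ a b : ZMod 3, ((root 0 1 a * root 0 3 b).1 = 1 → a = 0 ∧ b = 0) ∧
    (root 0 1 a * root 0 3 b).1 ≠ -1 := by decide +kernel

omit D in
theorem three_nsmul : ∀ a : ZMod 3 × ZMod 3, 3 • a = 0 := by decide +kernel

omit D in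
/-- The group generated by two root groups. -/
def eU : Multiplicative (ZMod 3 × ZMod 3) →* SL4 :=
  MonoidHom.mk' (fun p => root 0 1 p.toAdd.1 * root 0 3 p.toAdd.2) fun p q => by
    show root 0 1 (p.toAdd.1 + q.toAdd.1) * root 0 3 (p.toAdd.2 + q.toAdd.2) = _
    rw [root, root, CfsgLib.Schur.SLFam.tv_add (by decide), CfsgLib.Schur.SLFam.tv_add (by decide),
      mul_assoc, mul_assoc, ← mul_assoc (CfsgLib.Schur.SLFam.tv 0 1 q.toAdd.1),
      CfsgLib.Schur.SLFam.tv_comm (by decide : (0 : Fin 4) ≠ 1) (by decide : (0 : Fin 4) ≠ 3) (by decide)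
        (by decide), mul_assoc]
    rfl

variable [Finite G]

/-- The centraliser of an element with a block of size three. -/
theorem cent_u : ∀ g : G, g * φ uRep = φ uRep * g → g ∈ φ.range ∧ g ^ 9 = 1 ∧ g * φ zRep = φ zRep * g := by
  classical
  haveI : Fact (Nat.Prime 3) := ⟨Nat.prime_three⟩
  set Γ := Subgroup.centralizer ({φ uRep} : Set G) with hΓ
  have hu3 : uRep ^ 3 = 1 := Subtype.ext (by decide +kernel)
  have hin : ∀ g ∈ Γ, g ∈ φ.range → g ^ 9 = 1 ∧ g * φ zRep = φ zRep * g := by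
    rintro g hg ⟨s, rfl⟩
    obtain ⟨h9, hz⟩ := cent_uRep (lift_commute D hu3 (Subgroup.mem_centralizer_singleton_iff.1 hg))
    exact ⟨by rw [← map_pow, phi_eq_one D]; exact h9, by rw [← map_mul, hz, map_mul]⟩
  set P : Subgroup Γ := φ.range.subgroupOf Γ with hPdef
  have hP : IsPGroup 3 P := fun x => ⟨2, Subtype.ext (Subtype.ext (by
    simpa using (hin _ x.1.2 x.2).1))⟩
  have huz : φ zRep ∈ Γ := Subgroup.mem_centralizer_singleton_iff.2 (by
    rw [← map_mul, ← map_mul, show zRep * uRep = uRep * zRep from Subtype.ext (by decide +kernel)])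
  obtain ⟨K, hKn, hK3, hKP⟩ := control (z := (⟨φ zRep, huz⟩ : Γ)) hP ⟨zRep, rfl⟩
    (fun x hx => Subtype.ext (hin _ x.2 hx).2) fun c hc => D.zt c.1 hc
  haveI := hKn
  -- the complement lies in the image
  let e : Multiplicative (ZMod 3 × ZMod 3) →* G := φ.comp eU
  have heΓ : e.range ≤ Γ := by
    rintro _ ⟨p, rfl⟩
    refine Subgroup.mem_centralizer_singleton_iff.2 ?_
    show φ (root 0 1 p.toAdd.1 * root 0 3 p.toAdd.2) * φ uRep = _
    rw [← map_mul, Subtype.ext (eU_facts p.toAdd.1 p.toAdd.2).1, map_mul]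
    rfl
  have hzt : ∀ g ∈ e.range, g ≠ 1 → ∃ x : SL4, φ x = g ∧ ZT φ x := by
    rintro _ ⟨p, rfl⟩ hg
    obtain ⟨-, h2, h3⟩ := eU_facts p.toAdd.1 p.toAdd.2
    refine ⟨_, rfl, zt_of_label D (mem_upper_of_code h2) (h3.resolve_left fun ⟨ha, hb⟩ => hg ?_)⟩
    rw [show p = 1 from Multiplicative.toAdd.injective (Prod.ext ha hb), map_one]
  have hinj : Function.Injective e := by
    refine (injective_iff_map_eq_one e).2 fun p hp => ?_
    rcases center_eq ((phi_eq_one D).1 hp) with h | h
    · obtain ⟨ha, hb⟩ := (eU_ne p.toAdd.1 p.toAdd.2).1 (congrArg Subtype.val h)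
      exact Multiplicative.toAdd.injective (Prod.ext ha hb)
    · exact absurd (congrArg Subtype.val h) (eU_ne p.toAdd.1 p.toAdd.2).2
  have hcard : Nat.card e.range = 9 := by
    rw [← Nat.card_congr (MonoidHom.ofInjective hinj).toEquiv]
    simp
  haveI : IsMulCommutative e.range := ⟨⟨by
    rintro ⟨_, p, rfl⟩ ⟨_, q, rfl⟩
    exact Subtype.ext (by
      show e p * e q = e q * e p
      rw [← map_mul, ← map_mul, mul_comm])⟩⟩
  have hK' : K.map Γ.subtype ≤ φ.range := by
    refine CfsgLib.Coprime.le_of_centralizer_le (A := e.range)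
      (CfsgLib.Coprime.not_isCyclic_of_exponent (p := 3) ?_ (by norm_num) (by omega)) ?_ ?_ ?_
    · rintro _ ⟨p, rfl⟩
      rw [← map_pow]
      rw [show p ^ 3 = 1 from Multiplicative.toAdd.injective (three_nsmul p.toAdd), map_one]
    · intro g hg
      have hn : ∀ c ∈ Γ, ∀ k ∈ K.map Γ.subtype, c * k * c⁻¹ ∈ K.map Γ.subtype := by
        rintro c hc _ ⟨k, hk, rfl⟩
        exact ⟨⟨c, hc⟩ * k * ⟨c, hc⟩⁻¹, hKn.conj_mem k hk _, rfl⟩
      refine Subgroup.mem_normalizer_iff.2 fun k => ⟨hn g (heΓ hg) k, fun h => ?_⟩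
      simpa [mul_assoc] using hn g⁻¹ (inv_mem (heΓ hg)) _ h
    · rw [hcard, Subgroup.card_map_of_injective Γ.subtype_injective]
      exact (Nat.prime_three.coprime_iff_not_dvd.2 hK3).pow_left 2
    · intro g hg hg1
      obtain ⟨x, rfl, hx⟩ := hzt g hg hg1
      exact inf_le_right.trans hx.centralizer_le
  have hKP' : K ≤ P := fun k hk => hK' ⟨k, hk, rfl⟩
  have htop : P = ⊤ := by rw [← hKP, sup_eq_right.2 hKP']
  intro g hg
  have hgΓ : g ∈ Γ := Subgroup.mem_centralizer_singleton_iff.2 hg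
  have hr : g ∈ φ.range := (htop ▸ Subgroup.mem_top _ : (⟨g, hgΓ⟩ : Γ) ∈ P)
  exact ⟨hr, hin g hgΓ hr⟩

theorem cent_u_le : Subgroup.centralizer ({φ uRep} : Set G) ≤ φ.range := fun g hg =>
  (cent_u D g (Subgroup.mem_centralizer_singleton_iff.1 hg)).1

omit D [Finite G] in
/-- `diag (1,-1,1,-1)`. -/
def dPM : SL4 := ⟨Matrix.diagonal ![1, -1, 1, -1], by decide +kernel⟩

omit D [Finite G] in
theorem dPM_facts : dPM * pRep = pRep * dPM ∧ dPM * mRep = mRep * dPM ∧ dPM * dPM = 1 ∧
    dPM.1 ≠ 1 ∧ dPM.1 ≠ -1 := by decide +kernel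

/-- Elements with a block of size three are moved into the image only by the image. -/
theorem zt_uRep : ZT φ uRep := by
  intro g hg
  have hu3 : uRep ^ 3 = 1 := Subtype.ext (by decide +kernel)
  obtain ⟨s, hs, hs3⟩ := lift_three D hg (by rw [conj_pow, ← map_pow, hu3, map_one, mul_one, mul_inv_cancel])
  have hcentral : Subgroup.centralizer ({φ s} : Set G) ≤ φ.range → g ∈ φ.range := fun hC => by
    refine D.zt g (hC (Subgroup.mem_centralizer_singleton_iff.2 ?_))
    rw [hs, conj_mul, conj_mul, ← map_mul, ← map_mul,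
      show root 0 3 1 * uRep = uRep * root 0 3 1 from Subtype.ext (by decide +kernel)]
  have hno : ∀ a r : SL4, a * s * a⁻¹ = r → dPM * r = r * dPM → False := by
    intro a r he hd
    set k := (φ a * g)⁻¹ * φ dPM * (φ a * g) with hk
    have hk2 : k * φ uRep = φ uRep * k := by
      have e1 : φ a * g * φ uRep * (φ a * g)⁻¹ = φ r := by
        rw [← he, map_mul, map_mul, map_inv, hs]; group
      have e2 : φ dPM * φ r = φ r * φ dPM := by rw [← map_mul, hd, map_mul]
      rw [← e1] at e2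
      calc k * φ uRep = (φ a * g)⁻¹ * (φ dPM * (φ a * g * φ uRep * (φ a * g)⁻¹)) * (φ a * g) := by
            rw [hk]; group
        _ = _ := by rw [e2, hk]; group
    have h9 := (cent_u D k hk2).2.1
    rw [hk, show (φ a * g)⁻¹ * φ dPM * (φ a * g) = (φ a * g)⁻¹ * φ dPM * ((φ a * g)⁻¹)⁻¹ by rw [inv_inv],
      conj_pow, mul_inv_eq_one, ← eq_comm, left_eq_mul, ← map_pow,
      show dPM ^ 9 = dPM by simp only [pow_succ, pow_zero, one_mul, dPM_facts.2.2.1]] at h9
    rcases center_eq ((phi_eq_one D).1 h9) with h | h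
    · exact dPM_facts.2.2.2.1 (congrArg Subtype.val h)
    · exact dPM_facts.2.2.2.2 (congrArg Subtype.val h)
  rcases classify hs3 with rfl | ⟨a, h | h | h | h⟩
  · rw [map_one] at hs
    have : φ uRep = 1 := conj_eq_one_iff.1 hs.symm
    rcases center_eq ((phi_eq_one D).1 this) with h | h <;> exact absurd (congrArg Subtype.val h) (by decide +kernel)
  · have hz' : ZT φ s := ZT.of_conj h (zt_zRep D)
    refine inv_mem_iff.1 (hz' g⁻¹ ?_)
    rw [hs, inv_inv]
    exact ⟨uRep, by group⟩
  · refine hcentral fun c hc => ?_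
    have : φ a * c * (φ a)⁻¹ ∈ φ.range := cent_u_le D (Subgroup.mem_centralizer_singleton_iff.2 (by
      rw [← h, map_mul, map_mul, map_inv, conj_mul, conj_mul, Subgroup.mem_centralizer_singleton_iff.1 hc]))
    simpa [mul_assoc] using mul_mem (mul_mem (inv_mem (show φ a ∈ φ.range from ⟨a, rfl⟩)) this)
      (show φ a ∈ φ.range from ⟨a, rfl⟩)
  · exact (hno a _ h dPM_facts.1).elim
  · exact (hno a _ h dPM_facts.2.1).elim

end CfsgLib.LFourThree.StrongII
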