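import Cfsg.Agent.Lib.LFourThree.StrongII.Model
import Cfsg.Agent.S3339

/-!
A copy of `PSL(4,3)` containing the centraliser of a root element contains the centraliser of an element with
two blocks of size two: the quotient by that element is recognised by its three-local subgroup.
-/

set_option autoImplicit false
set_option maxRecDepth 100000
set_option linter.style.haveILetI false
set_option linter.unusedSectionVars false

namespace CfsgLib.LFourThree.StrongII

open Matrix
open CfsgLib.AltNineThree (E9)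

/-- The translations giving root elements. -/
def eeL : List ℕ := [0, 22, 17, 12, 7, 20, 24, 10, 5]

/-- The index of the entries above the diagonal. -/
def idxC (c : ℕ) : ℕ := packL [ent c 1, ent c 2, ent c 3, ent c 6, ent c 7, ent c 11]

/-- Whether the square of `c - 1` is not zero. -/
def sqB (c : ℕ) : Bool :=
  !(List.range 16).all fun k => Nat.beq (Nat.mod (ent (mulC c c) k + ent c k + ent oneC k) 3) 0

open CfsgLib.AltNineThree in
theorem ee_facts : eeL.all (fun a => jC a && eeL.contains (invC a) &&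
    eeL.all fun b => eeL.contains (eMul a b)) = true := by decide +kernel

theorem ee_label : eeL.all (fun e => Nat.beq e 0 || (List.range 6).any fun t =>
    Nat.beq (uCode (idxC (mulC (fC e) (tC t)))) (mulC (fC e) (tC t)) &&
      Nat.beq (uLab (idxC (mulC (fC e) (tC t)))) 1) = true := by decide +kernel

open CfsgLib.AltNineThree in
theorem j_conj : allC (fun x => allJ fun j => jC (conjC x j)) = true := by decide +kernel

open CfsgLib.AltNineThree in
theorem out_lift : allC (fun x => impB (Nat.beq (cubeC x) 0 && !jC x) ((List.range 6).any fun t =>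
    Nat.beq (StrongII.mulC (StrongII.mulC (StrongII.mulC (fC x) (tC t)) (StrongII.mulC (fC x) (tC t)))
      (StrongII.mulC (fC x) (tC t))) oneC && sqB (StrongII.mulC (fC x) (tC t)))) = true := by decide +kernel

open CfsgLib.AltNineThree in
theorem out_cent : allC (fun x => impB (Nat.beq (cubeC x) 0 && !jC x)
    (allC fun y => impB (commC x y) (Nat.beq (cubeC (cubeC y)) 0))) = true := by decide +kernel

open CfsgLib.AltNineThree in
theorem x0_facts : ((List.range 648).filter (commC 351)).length = 9 ∧ Nat.beq (cubeC 351) 0 = true ∧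
    Nat.beq (StrongII.mulC (fC 22) (tC 0)) 14408227 = true := by decide +kernel

theorem idxC_eq {g : SL4} {c : ℕ} (h : g.1 = dec c) : uIdx g = idxC c := by
  have hv : ∀ k, ((ent c k : ℕ) : ZMod 3).val = ent c k := fun k => by
    rw [ZMod.val_natCast]; exact Nat.mod_eq_of_lt (Nat.mod_lt _ (by norm_num))
  rw [uIdx, idxC, h]
  simp only [dec, hv]
  rfl

theorem exists_u_lift (x : E9) (t : Fin 6)
    (h1 : Nat.beq (mulC (mulC (mulC (fC x.c) (tC t)) (mulC (fC x.c) (tC t))) (mulC (fC x.c) (tC t))) oneC = true)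
    (h2 : sqB (mulC (fC x.c) (tC t)) = true) : ∃ a : SL4, a * (fEl x * tEl t) * a⁻¹ = uRep := by
  set s := fEl x * tEl t with hs
  have hsv : s.1 = dec (mulC (fC x.c) (tC t)) := by
    rw [hs, Matrix.SpecialLinearGroup.coe_mul (fEl x) (tEl t), fEl_val, dec_mulC, ← t_vals t]
  generalize mulC (fC x.c) (tC t) = c at h1 h2 hsv
  have hs3 : s ^ 3 = 1 := Subtype.ext (by
    rw [Matrix.SpecialLinearGroup.coe_pow, hsv, pow_succ, pow_two, ← dec_mulC, ← dec_mulC,
      Nat.eq_of_beq_eq_true h1, dec_oneC]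
    rfl)
  refine exists_conj_u hs3 fun h0 => ?_
  have hb : sqB c = false := by
    rw [sqB, Bool.not_eq_false', List.all_eq_true]
    intro k hk
    have hk' := List.mem_range.1 hk
    have hkk := congrFun (congrFun h0 ⟨k / 4, by omega⟩) ⟨k % 4, Nat.mod_lt _ (by norm_num)⟩
    rw [hsv, ← dec_mulC, ← dec_oneC] at hkk
    simp only [Matrix.add_apply, Matrix.zero_apply, dec, show 4 * (k / 4) + k % 4 = k by omega,
      ← Nat.cast_add] at hkk
    rw [ZMod.natCast_eq_zero_iff] at hkk
    have hk0 := Nat.mod_eq_zero_of_dvd hkk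
    simp only [Nat.beq_eq, Nat.mod_eq]
    exact hk0
  rw [hb] at h2
  exact absurd h2 (by simp)

/-- The group of translations giving root elements. -/
def EE : Subgroup E9 where
  carrier := {x | eeL.contains (x.c : ℕ) = true}
  one_mem' := show eeL.contains (0 : ℕ) = true by decide +kernel
  mul_mem' := by
    intro a b ha hb
    have h := List.all_eq_true.1 ee_facts a.c (List.contains_iff_mem.1 ha)
    simp only [Bool.and_eq_true] at h
    show eeL.contains ((a * b).c : ℕ) = true
    rw [E9.code_mul]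
    exact List.all_eq_true.1 h.2 b.c (List.contains_iff_mem.1 hb)
  inv_mem' := by
    intro a ha
    have h := List.all_eq_true.1 ee_facts a.c (List.contains_iff_mem.1 ha)
    simp only [Bool.and_eq_true] at h
    show eeL.contains ((a⁻¹).c : ℕ) = true
    rw [E9.code_inv]
    exact h.1.2

theorem mem_EE {x : E9} : x ∈ EE ↔ (x.c : ℕ) ∈ eeL := List.contains_iff_mem

theorem EE_le : EE ≤ E9.JE := fun x hx => by
  have h := List.all_eq_true.1 ee_facts x.c (mem_EE.1 hx)
  simp only [Bool.and_eq_true] at h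
  exact E9.mem_JE.2 h.1.1

theorem card_EE : Nat.card EE = 9 := by
  rw [Nat.card_congr (show EE ≃ {n : ℕ // n ∈ eeL.toFinset} from
    ⟨fun x => ⟨x.1.c, List.mem_toFinset.2 (mem_EE.1 x.2)⟩,
      fun n => ⟨E9.mk' n, mem_EE.2 (by
        obtain ⟨n, hn⟩ := n
        have hn' := List.mem_toFinset.1 hn
        have : n < 648 := by
          simp only [eeL, List.mem_cons, List.not_mem_nil, or_false] at hn'
          omega
        rw [E9.code_mk this]; exact hn')⟩,
      fun x => Subtype.ext (E9.code_inj (E9.code_mk x.1.c.isLt)),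
      fun n => Subtype.ext (E9.code_mk (by
        obtain ⟨n, hn⟩ := n
        have hn' := List.mem_toFinset.1 hn
        simp only [eeL, List.mem_cons, List.not_mem_nil, or_false] at hn'
        show n < 648
        omega))⟩), Nat.card_eq_fintype_card, Fintype.card_coe]
  decide +kernel

open Equiv in
theorem support_reps : (E9.el (E9.mk' 1)).support.card = 3 ∧ (E9.el (E9.mk' 4)).support.card = 6 ∧
    (E9.el (E9.mk' 13)).support.card = 9 := by decide +kernel

/-- Every element of order three of the alternating group of degree nine has centraliser of order at least 27. -/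
theorem card_cent_A9 (y : alternatingGroup (Fin 9)) (hy : orderOf y = 3) :
    27 ≤ Nat.card (Subgroup.centralizer ({y} : Set (alternatingGroup (Fin 9)))) := by
  haveI : Fact (Nat.Prime 3) := ⟨Nat.prime_three⟩
  have ho : orderOf (y : Equiv.Perm (Fin 9)) = 3 := by rw [Subgroup.orderOf_coe, hy]
  obtain ⟨n, hn⟩ := Equiv.Perm.cycleType_prime_order (σ := (y : Equiv.Perm (Fin 9))) (by rw [ho]; exact Nat.prime_three)
  rw [ho] at hn
  have hsum := (y : Equiv.Perm (Fin 9)).sum_cycleType
  have hle : (y : Equiv.Perm (Fin 9)).support.card ≤ 9 :=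
    (Finset.card_le_univ _).trans (by simp)
  rw [hn, Multiset.sum_replicate, smul_eq_mul] at hsum
  obtain ⟨j, hj, hjt⟩ : ∃ j ∈ E9.JE, (E9.el j).cycleType = Multiset.replicate (n + 1) 3 := by
    have key : ∀ j : E9, j ∈ E9.JE → j ≠ 1 → (E9.el j).support.card = (n + 1) * 3 →
        (E9.el j).cycleType = Multiset.replicate (n + 1) 3 := by
      intro j hj hj1 hs
      have hj3 : orderOf (E9.el j) = 3 := orderOf_eq_prime
        (by show (E9.elHom j) ^ 3 = 1; rw [← map_pow, E9.JE_cube hj, map_one])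
        fun e => hj1 (E9.el_injective (e.trans E9.el_one.symm))
      obtain ⟨m, hm⟩ := Equiv.Perm.cycleType_prime_order (σ := E9.el j) (by rw [hj3]; exact Nat.prime_three)
      rw [hj3] at hm
      have h2 := (E9.el j).sum_cycleType
      rw [hm, Multiset.sum_replicate, smul_eq_mul] at h2
      rw [hm, show m = n by omega]
    obtain ⟨s1, s4, s13⟩ := support_reps
    have hm : ∀ a, a < 27 → E9.mk' a ∈ E9.JE := fun a ha => by
      rw [E9.mem_JE, E9.code_mk (by omega)]
      exact Nat.ble_eq_true_of_le ha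
    have hne : ∀ a, a < 27 → a ≠ 0 → E9.mk' a ≠ 1 := fun a ha h0 e => h0 (by
      have h' := congrArg (fun x : E9 => (x.c : ℕ)) e
      simp only [E9.code_mk (show a < 648 by omega), E9.code_one] at h'
      exact h')
    obtain rfl | rfl | rfl : n = 0 ∨ n = 1 ∨ n = 2 := by omega
    · exact ⟨_, hm 1 (by norm_num), key _ (hm 1 (by norm_num)) (hne 1 (by norm_num) (by norm_num)) s1⟩
    · exact ⟨_, hm 4 (by norm_num), key _ (hm 4 (by norm_num)) (hne 4 (by norm_num) (by norm_num)) s4⟩
    · exact ⟨_, hm 13 (by norm_num), key _ (hm 13 (by norm_num)) (hne 13 (by norm_num) (by norm_num)) s13⟩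
  obtain ⟨c, hc⟩ := isConj_iff.1 (Equiv.Perm.isConj_iff_cycleType_eq.2 (hjt.trans hn.symm))
  rw [← E9.card_JE]
  have halt : ∀ i : E9, c * E9.el i * c⁻¹ ∈ alternatingGroup (Fin 9) := fun i => by
    have h := Equiv.Perm.mem_alternatingGroup.1 (E9.el_mem i).1
    rw [Equiv.Perm.mem_alternatingGroup, map_mul, map_mul, map_inv, h, mul_one, mul_inv_cancel]
  refine Nat.card_le_card_of_injective (fun i : E9.JE => ⟨⟨_, halt i.1⟩, ?_⟩) fun a b e => ?_
  · refine Subgroup.mem_centralizer_singleton_iff.2 (Subtype.ext ?_)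
    show c * E9.el i.1 * c⁻¹ * (y : Equiv.Perm (Fin 9)) = (y : Equiv.Perm (Fin 9)) * (c * E9.el i.1 * c⁻¹)
    rw [← hc, conj_mul, conj_mul, ← E9.el_mul, ← E9.el_mul, E9.JE_comm i.2 hj]
  · have h := congrArg (fun z : Subgroup.centralizer ({y} : Set (alternatingGroup (Fin 9))) =>
      (z.1 : Equiv.Perm (Fin 9))) e
    exact Subtype.ext (E9.el_injective (conj_injective h))

variable {G : Type*} [Group G] {φ : SL4 →* G}

/-- The centraliser. -/
abbrev cV (φ : SL4 →* G) : Subgroup G := Subgroup.centralizer ({φ pRep} : Set G)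

/-- The group generated by the central element. -/
def vc (φ : SL4 →* G) : Subgroup (cV φ) :=
  Subgroup.zpowers ⟨φ pRep, Subgroup.mem_centralizer_singleton_iff.2 rfl⟩

instance (φ : SL4 →* G) : (vc φ).Normal := by
  refine ⟨fun n hn g => ?_⟩
  have hc : Commute g (⟨φ pRep, Subgroup.mem_centralizer_singleton_iff.2 rfl⟩ : cV φ) :=
    Subtype.ext (Subgroup.mem_centralizer_singleton_iff.1 g.2)
  obtain ⟨k, rfl⟩ := hn
  rw [(hc.zpow_right k).eq, mul_inv_cancel_right]
  exact ⟨k, rfl⟩

/-- The image of an element of the model. -/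
def psiF (φ : SL4 →* G) (x : E9) : cV φ ⧸ vc φ :=
  QuotientGroup.mk' (vc φ) ⟨φ (fEl x), Subgroup.mem_centralizer_singleton_iff.2 (by
    rw [← map_mul, fEl_comm, map_mul])⟩

variable (D : Ctx φ)
include D

theorem tEl_mem (t : Fin 6) : (⟨φ (tEl t), Subgroup.mem_centralizer_singleton_iff.2 (by
    rw [← map_mul, tEl_comm, map_mul])⟩ : cV φ) ∈ vc φ := by
  refine ⟨((t.val / 2 : ℕ) : ℤ), Subtype.ext ?_⟩
  show ((_ : cV φ) ^ ((t.val / 2 : ℕ) : ℤ)).1 = φ (tEl t)
  rw [zpow_natCast, SubgroupClass.coe_pow, tEl, map_mul, map_pow, map_pow, phi_negOne D, one_pow, mul_one]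

theorem vc_range {z : cV φ} (h : z ∈ vc φ) : ∃ k : ℕ, k < 3 ∧ z.1 = φ (pRep ^ k) := by
  obtain ⟨k, rfl⟩ := h
  refine ⟨(k % 3).toNat, by omega, ?_⟩
  show ((_ : cV φ) ^ k).1 = _
  have h3 : (φ pRep) ^ (3 : ℤ) = 1 := by
    rw [show ((3 : ℤ)) = ((3 : ℕ) : ℤ) from rfl, zpow_natCast, ← map_pow,
      show pRep ^ 3 = 1 from Subtype.ext (by decide +kernel), map_one]
  rw [SubgroupClass.coe_zpow, map_pow, ← zpow_natCast (φ pRep) (k % 3).toNat, Int.toNat_of_nonneg (by omega)]
  show φ pRep ^ k = _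
  conv_lhs => rw [← Int.emod_add_ediv_mul k 3]
  rw [_root_.zpow_add, mul_comm (k / 3), _root_.zpow_mul, h3, _root_.one_zpow, mul_one]

/-- The image of the kernel element is trivial. -/
theorem mk_eq {a b : cV φ} {s r : SL4} (ha : a.1 = φ s) (hb : b.1 = φ r) {t : Fin 6} (h : s = r * tEl t) :
    QuotientGroup.mk' (vc φ) a = QuotientGroup.mk' (vc φ) b := by
  refine ((QuotientGroup.eq (s := vc φ)).2 ?_).symm
  have e : b⁻¹ * a = ⟨φ (tEl t), Subgroup.mem_centralizer_singleton_iff.2 (by
      rw [← map_mul, tEl_comm, map_mul])⟩ := Subtype.ext (by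
    show b.1⁻¹ * a.1 = φ (tEl t)
    rw [ha, hb, h, map_mul, inv_mul_cancel_left])
  rw [e]
  exact tEl_mem D t

theorem psiF_one : psiF φ 1 = 1 := by
  rw [psiF, ← map_one (QuotientGroup.mk' (vc φ))]
  congr 1
  exact Subtype.ext (by show φ (fEl 1) = 1; rw [fEl_one, map_one])

theorem psiF_mul_gen {g : ℕ} (hg : g ∈ gens) (y : E9) :
    psiF φ (E9.mk' g * y) = psiF φ (E9.mk' g) * psiF φ y := by
  obtain ⟨t, ht⟩ := fEl_mul_gen hg y
  rw [psiF, psiF, psiF, ← map_mul]
  exact (mk_eq D (s := fEl (E9.mk' g) * fEl y) (r := fEl (E9.mk' g * y)) (map_mul φ _ _).symm rfl ht).symm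

/-- The model maps to the quotient. -/
def psi : E9 →* cV φ ⧸ vc φ :=
  MonoidHom.mk' (psiF φ) fun x y => by
    revert y
    refine gen_induction (P := fun x => ∀ y, psiF φ (x * y) = psiF φ x * psiF φ y) ?_ ?_ x
    · intro y; rw [psiF_one D, one_mul, one_mul]
    · intro g hg x hx y
      rw [mul_assoc, psiF_mul_gen D hg, psiF_mul_gen D hg, hx, mul_assoc]

theorem psi_apply (x : E9) : psi D x = QuotientGroup.mk' (vc φ) ⟨φ (fEl x),
    Subgroup.mem_centralizer_singleton_iff.2 (by rw [← map_mul, fEl_comm, map_mul])⟩ := rfl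

theorem psi_injective : Function.Injective (psi D) := by
  refine (injective_iff_map_eq_one _).2 fun x hx => ?_
  rw [psi_apply] at hx
  obtain ⟨k, hk, e⟩ := vc_range D ((QuotientGroup.eq_one_iff _).1 hx)
  have hc : (pRep ^ k)⁻¹ * fEl x ∈ Subgroup.center SL4 := by
    rw [← phi_eq_one D, map_mul, map_inv, ← e, inv_mul_cancel]
  rcases center_eq hc with h | h
  · refine fEl_eq_tEl (t := ⟨2 * k, by omega⟩) ?_
    rw [tEl, show (⟨2 * k, _⟩ : Fin 6).val = 2 * k from rfl, show 2 * k / 2 = k by omega,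
      show 2 * k % 2 = 0 by omega, pow_zero, mul_one]
    rw [inv_mul_eq_one] at h
    rw [h]
  · refine fEl_eq_tEl (t := ⟨2 * k + 1, by omega⟩) ?_
    rw [tEl, show (⟨2 * k + 1, _⟩ : Fin 6).val = 2 * k + 1 from rfl, show (2 * k + 1) / 2 = k by omega,
      show (2 * k + 1) % 2 = 1 by omega, pow_one]
    rw [inv_mul_eq_iff_eq_mul] at h
    exact h

theorem mem_range_psi {g : cV φ} (hg : g.1 ∈ φ.range) :
    QuotientGroup.mk' (vc φ) g ∈ (psi D).range := by
  obtain ⟨s, hs⟩ := hg
  have hp3 : pRep ^ 3 = 1 := Subtype.ext (by decide +kernel)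
  have hc := lift_commute D (a := s) hp3 (by
    show φ s * φ pRep = φ pRep * φ s
    rw [hs]; exact Subgroup.mem_centralizer_singleton_iff.1 g.2)
  obtain ⟨x, t, e⟩ := exists_of_comm hc
  exact ⟨x, by rw [psi_apply]; exact (mk_eq D hs.symm rfl e).symm⟩

theorem range_of_mk {g : cV φ} (h : QuotientGroup.mk' (vc φ) g ∈ (psi D).range) : g.1 ∈ φ.range := by
  obtain ⟨x, hx⟩ := h
  rw [psi_apply] at hx
  obtain ⟨k, -, e⟩ := vc_range D ((QuotientGroup.eq (s := vc φ)).1 hx)
  refine ⟨fEl x * pRep ^ k, ?_⟩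
  rw [map_mul, ← e]
  simp

/-- Elements of the quotient commuting with an image of a root element come from the image. -/
theorem mk_range_of_comm {g : cV φ} {x : E9} {t : Fin 6} (hz : ZT φ (fEl x * tEl t))
    (h : QuotientGroup.mk' (vc φ) g * psi D x = psi D x * QuotientGroup.mk' (vc φ) g) :
    QuotientGroup.mk' (vc φ) g ∈ (psi D).range := by
  have hmem : fEl x * tEl t * pRep = pRep * (fEl x * tEl t) := by
    rw [mul_assoc, tEl_comm, ← mul_assoc, fEl_comm, mul_assoc]
  set a : cV φ := ⟨φ (fEl x * tEl t), Subgroup.mem_centralizer_singleton_iff.2 (by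
    rw [← map_mul, hmem, map_mul])⟩ with ha
  have hax : QuotientGroup.mk' (vc φ) a = psi D x := by
    rw [psi_apply]; exact mk_eq D rfl rfl rfl
  refine mem_range_psi D (hz g.1 ?_)
  have hm : QuotientGroup.mk' (vc φ) (g * a * g⁻¹) ∈ (psi D).range := by
    rw [map_mul, map_mul, map_inv, hax, h, mul_inv_cancel_right]; exact ⟨x, rfl⟩
  exact range_of_mk D hm

theorem ee_zt {x : E9} (hx : x ∈ EE) (h1 : x ≠ 1) : ∃ t : Fin 6, ZT φ (fEl x * tEl t) := by
  have h := List.all_eq_true.1 ee_label x.c (mem_EE.1 hx)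
  rw [Bool.or_eq_true] at h
  have h := h.resolve_left fun e => h1 (E9.code_inj (Nat.eq_of_beq_eq_true e))
  rw [List.any_eq_true] at h
  obtain ⟨t, ht, h⟩ := h
  rw [Bool.and_eq_true] at h
  refine ⟨⟨t, List.mem_range.1 ht⟩, ?_⟩
  have hval : (fEl x * tEl ⟨t, List.mem_range.1 ht⟩).1 = dec (mulC (fC x.c) (tC t)) := by
    rw [Matrix.SpecialLinearGroup.coe_mul (fEl x) (tEl _), fEl_val, dec_mulC, ← t_vals ⟨t, _⟩]
  have hi := idxC_eq hval
  refine zt_of_label D (mem_upper_of_code ?_) ?_
  · rw [hi, hval, Nat.eq_of_beq_eq_true h.1]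
  · rw [hi]; exact Nat.eq_of_beq_eq_true h.2

variable [Finite G]

/-- A subgroup of order prime to three normalised by the translations lies in the model. -/
theorem le_range_of_normalized {N : Subgroup (cV φ ⧸ vc φ)} (h3 : ¬ 3 ∣ Nat.card N)
    (hn : E9.JE.map (psi D) ≤ Subgroup.normalizer (N : Set (cV φ ⧸ vc φ))) : N ≤ (psi D).range := by
  haveI : Fact (Nat.Prime 3) := ⟨Nat.prime_three⟩
  haveI : IsMulCommutative (EE.map (psi D)) := ⟨⟨by
    rintro ⟨_, p, hp, rfl⟩ ⟨_, q, hq, rfl⟩
    exact Subtype.ext (by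
      show psi D p * psi D q = psi D q * psi D p
      rw [← map_mul, ← map_mul, E9.JE_comm (EE_le hp) (EE_le hq)])⟩⟩
  have hcard : Nat.card (EE.map (psi D)) = 9 := by
    rw [Subgroup.card_map_of_injective (psi_injective D), card_EE]
  refine CfsgLib.Coprime.le_of_centralizer_le (A := EE.map (psi D))
    (CfsgLib.Coprime.not_isCyclic_of_exponent (p := 3) ?_ (by norm_num) (by omega)) ?_ ?_ ?_
  · rintro _ ⟨p, hp, rfl⟩
    rw [← map_pow, E9.JE_cube (EE_le hp), map_one]
  · exact (Subgroup.map_mono EE_le).trans hn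
  · rw [hcard]
    exact (Nat.prime_three.coprime_iff_not_dvd.2 h3).pow_left 2
  · rintro _ ⟨p, hp, rfl⟩ h1
    obtain ⟨t, ht⟩ := ee_zt D hp fun e => h1 (by rw [e, map_one])
    rintro g ⟨-, hg⟩
    obtain ⟨g, rfl⟩ := QuotientGroup.mk'_surjective (vc φ) g
    exact mk_range_of_comm D ht (Subgroup.mem_centralizer_singleton_iff.1 hg)

/-- The cores are trivial. -/
theorem core_eq_bot {x : E9} (hx3 : x ^ 3 = 1) :
    Cfsg.pPrimeCore 3 (Subgroup.centralizer ({psi D x} : Set (cV φ ⧸ vc φ))) = ⊥ := by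
  haveI : Fact (Nat.Prime 3) := ⟨Nat.prime_three⟩
  rw [eq_bot_iff]
  set C := Subgroup.centralizer ({psi D x} : Set (cV φ ⧸ vc φ))
  refine sSup_le fun N ⟨hN, hcop⟩ => ?_
  haveI := hN
  set N' := N.map C.subtype
  suffices hbot : N' = ⊥ by
    rw [Subgroup.map_eq_bot_iff_of_injective _ C.subtype_injective] at hbot
    rw [hbot]
  have hN3 : ¬ 3 ∣ Nat.card N' := by
    rw [Subgroup.card_map_of_injective C.subtype_injective]
    exact Nat.prime_three.coprime_iff_not_dvd.1 hcop.symm
  have hone : ∀ k ∈ N', ∀ n : ℕ, k ^ (3 ^ n) = 1 → k = 1 := by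
    intro k hk n hkn
    have h1 : orderOf k ∣ Nat.card N' := by
      rw [← Subgroup.orderOf_mk k hk]; exact orderOf_dvd_natCard _
    obtain ⟨i, -, hi⟩ := (Nat.dvd_prime_pow Nat.prime_three).1 (orderOf_dvd_of_pow_eq_one hkn)
    cases i with
    | zero => exact orderOf_eq_one_iff.1 (by rw [hi, pow_zero])
    | succ i => exact absurd ((dvd_pow_self 3 (Nat.succ_ne_zero i)).trans (hi ▸ h1)) hN3
  by_cases hxJ : x ∈ E9.JE
  · have hJC : E9.JE.map (psi D) ≤ C := by
      rintro _ ⟨j, hj, rfl⟩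
      exact Subgroup.mem_centralizer_singleton_iff.2 (by rw [← map_mul, ← map_mul, E9.JE_comm hj hxJ])
    have hn : ∀ c ∈ C, ∀ k ∈ N', c * k * c⁻¹ ∈ N' := by
      rintro c hc _ ⟨k, hk, rfl⟩
      exact ⟨⟨c, hc⟩ * k * ⟨c, hc⟩⁻¹, hN.conj_mem k hk _, rfl⟩
    have hnorm : E9.JE.map (psi D) ≤ Subgroup.normalizer (N' : Set (cV φ ⧸ vc φ)) := fun j hj =>
      Subgroup.mem_normalizer_iff.2 fun k => ⟨hn j (hJC hj) k, fun h => by
        simpa [mul_assoc] using hn j⁻¹ (inv_mem (hJC hj)) _ h⟩
    rw [eq_bot_iff]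
    intro k hk
    obtain ⟨a, rfl⟩ := le_range_of_normalized D hN3 hnorm hk
    have hcomm : ∀ j ∈ E9.JE, a * j = j * a := by
      intro j hj
      have h1 : psi D (j * a * j⁻¹ * a⁻¹) ∈ N' := by
        rw [map_mul, map_inv _ a, map_mul, map_mul, map_inv]
        exact mul_mem (hn _ (hJC ⟨j, hj, rfl⟩) _ hk) (inv_mem hk)
      have h2 : j * a * j⁻¹ * a⁻¹ ∈ E9.JE := by
        have h := CfsgLib.AltNineThree.allJ_spec (E9.all_spec j_conj a) (E9.mem_JE.1 (inv_mem hj))
        have h' : a * j⁻¹ * a⁻¹ ∈ E9.JE := by rw [E9.mem_JE, E9.code_conj]; exact h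
        simpa [mul_assoc] using mul_mem hj h'
      have h3 := hone _ h1 1 (by rw [pow_one, ← map_pow, E9.JE_cube h2, map_one])
      have h4 : j * a * j⁻¹ * a⁻¹ = 1 := psi_injective D (by rw [h3, map_one])
      rw [mul_inv_eq_one, mul_inv_eq_iff_eq_mul] at h4
      exact h4.symm
    have ha : a ∈ E9.JE := by
      have hj : ∀ n, n < 27 → CfsgLib.AltNineThree.commC a.c n = true := fun n hn => by
        have hmem : E9.mk' n ∈ E9.JE := by
          rw [E9.mem_JE, E9.code_mk (by omega)]; exact Nat.ble_eq_true_of_le hn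
        have := (E9.comm_iff _ _).2 (hcomm _ hmem)
        rwa [E9.code_mk (show n < 648 by omega)] at this
      refine E9.mem_JE.2 (CfsgLib.AltNineThree.impB_elim (E9.all_spec E9.cent_abc a) ?_)
      rw [hj 1 (by norm_num), hj 3 (by norm_num), hj 9 (by norm_num)]
      rfl
    exact hone _ hk 1 (by rw [pow_one, ← map_pow, E9.JE_cube ha, map_one])
  · rw [eq_bot_iff]
    intro y hy
    have hyC : y * psi D x = psi D x * y := by
      obtain ⟨k, -, rfl⟩ := hy
      exact Subgroup.mem_centralizer_singleton_iff.1 k.2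
    have hpre : (Nat.beq (CfsgLib.AltNineThree.cubeC x.c) 0 && !CfsgLib.AltNineThree.jC x.c) = true := by
      rw [← E9.code_cube, hx3]
      simpa [E9.code_one] using fun h => hxJ (E9.mem_JE.2 h)
    have h := CfsgLib.AltNineThree.impB_elim (E9.all_spec out_lift x) hpre
    rw [List.any_eq_true] at h
    obtain ⟨t, ht, h⟩ := h
    rw [Bool.and_eq_true] at h
    obtain ⟨a, ha⟩ := exists_u_lift x ⟨t, List.mem_range.1 ht⟩ h.1 h.2
    obtain ⟨g, rfl⟩ := QuotientGroup.mk'_surjective (vc φ) y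
    obtain ⟨b, hb⟩ := mk_range_of_comm D (g := g) (ZT.of_conj ha (zt_uRep D)) hyC
    rw [← hb] at hy hyC ⊢
    have hc : x * b = b * x := psi_injective D (by rw [map_mul, map_mul, hyC])
    have h9 := CfsgLib.AltNineThree.impB_elim
      (E9.all_spec (CfsgLib.AltNineThree.impB_elim (E9.all_spec out_cent x) hpre) b) ((E9.comm_iff _ _).2 hc)
    have hb9 : (b ^ 3) ^ 3 = 1 := E9.code_inj (by
      rw [E9.code_cube, E9.code_cube, Nat.eq_of_beq_eq_true h9]; rfl)
    exact hone _ hy 2 (by rw [← map_pow, show b ^ 3 ^ 2 = (b ^ 3) ^ 3 by rw [← pow_mul]; norm_num, hb9, map_one])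

/-- The normalizer of the translations in the quotient is the model. -/
theorem normalizer_eq : Subgroup.normalizer ((E9.JE.map (psi D) : Subgroup (cV φ ⧸ vc φ)) :
    Set (cV φ ⧸ vc φ)) = (psi D).range := by
  refine le_antisymm (fun y hy => ?_) ?_
  · obtain ⟨g, rfl⟩ := QuotientGroup.mk'_surjective (vc φ) y
    have hm : zRep * pRep = pRep * zRep := Subtype.ext (by decide +kernel)
    set a : cV φ := ⟨φ zRep, Subgroup.mem_centralizer_singleton_iff.2 (by rw [← map_mul, hm, map_mul])⟩
    have h22 : E9.mk' 22 ∈ E9.JE := by rw [E9.mem_JE, E9.code_mk (by norm_num)]; rfl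
    have ha : QuotientGroup.mk' (vc φ) a = psi D (E9.mk' 22) := by
      rw [psi_apply]
      refine mk_eq D (t := 0) rfl rfl (Subtype.ext ?_)
      rw [Matrix.SpecialLinearGroup.coe_mul (fEl (E9.mk' 22)) (tEl 0), fEl_val, E9.code_mk (by norm_num),
        ← t_vals, ← dec_mulC, rep_vals.2.1]
      exact congrArg dec (Nat.eq_of_beq_eq_true x0_facts.2.2).symm
    refine mem_range_psi D (D.zt g.1 ?_)
    have h := (Subgroup.mem_normalizer_iff.1 hy _).1 ⟨_, h22, rfl⟩
    rw [← ha, ← map_inv, ← map_mul, ← map_mul] at h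
    obtain ⟨j, -, hj⟩ := h
    exact range_of_mk D (g := g * a * g⁻¹) ⟨j, hj⟩
  · rintro _ ⟨b, rfl⟩
    refine Subgroup.mem_normalizer_iff.2 fun k => ⟨?_, fun h => ?_⟩
    · rintro ⟨j, hj, rfl⟩
      refine ⟨b * j * b⁻¹, ?_, by simp⟩
      rw [SetLike.mem_coe, E9.mem_JE, E9.code_conj]
      exact CfsgLib.AltNineThree.allJ_spec (E9.all_spec j_conj b) (E9.mem_JE.1 hj)
    · obtain ⟨j, hj, e⟩ := h
      refine ⟨b⁻¹ * j * b⁻¹⁻¹, ?_, ?_⟩
      · rw [SetLike.mem_coe, E9.mem_JE, E9.code_conj]
        exact CfsgLib.AltNineThree.allJ_spec (E9.all_spec j_conj b⁻¹) (E9.mem_JE.1 hj)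
      · rw [map_mul, map_mul, map_inv, map_inv, map_inv, inv_inv, e]; group

/-- The centraliser of an element with two blocks of size two. -/
theorem cent_p : Subgroup.centralizer ({φ pRep} : Set G) ≤ φ.range := by
  classical
  haveI : Fact (Nat.Prime 3) := ⟨Nat.prime_three⟩
  haveI : IsMulCommutative (E9.JE.map (psi D)) := ⟨⟨by
    rintro ⟨_, p, hp, rfl⟩ ⟨_, q, hq, rfl⟩
    exact Subtype.ext (by
      show psi D p * psi D q = psi D q * psi D p
      rw [← map_mul, ← map_mul, E9.JE_comm hp hq])⟩⟩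
  rcases Cfsg.Agent.S3339.result (E9.JE.map (psi D)) inferInstance
      (by rintro _ ⟨p, hp, rfl⟩; rw [← map_pow, E9.JE_cube hp, map_one])
      (by rw [Subgroup.card_map_of_injective (psi_injective D), E9.card_JE])
      (psi D).range (normalizer_eq D).symm _ rfl
      ((MonoidHom.ofInjective (psi_injective D)).symm.trans CfsgLib.AltNineThree.eN)
      (fun y ⟨x, hx⟩ h3 => by
        subst hx
        refine core_eq_bot D (psi_injective D ?_)
        rw [map_pow, ← h3, pow_orderOf_eq_one, map_one]) with htop | ⟨⟨e⟩⟩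
  · intro g hg
    exact range_of_mk D (g := ⟨g, hg⟩) (htop ▸ Subgroup.mem_top _)
  · exfalso
    set x := E9.mk' 351
    obtain ⟨hlen, hcube, -⟩ := x0_facts
    have hx3 : x ^ 3 = 1 := E9.code_inj (by
      rw [E9.code_cube, E9.code_mk (by norm_num), Nat.eq_of_beq_eq_true hcube]; rfl)
    have hxJ : ¬ CfsgLib.AltNineThree.jC x.c = true := by rw [E9.code_mk (by norm_num)]; decide +kernel
    have hxo : orderOf (psi D x) = 3 := by
      rw [orderOf_injective _ (psi_injective D)]
      refine orderOf_eq_prime hx3 fun h => hxJ ?_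
      rw [h]; rfl
    have hle : Nat.card (Subgroup.centralizer ({psi D x} : Set (cV φ ⧸ vc φ))) ≤ 9 := by
      have hsub : ∀ y : Subgroup.centralizer ({psi D x} : Set (cV φ ⧸ vc φ)), ∃ b : E9,
          psi D b = y.1 := by
        rintro ⟨y, hy⟩
        obtain ⟨g, rfl⟩ := QuotientGroup.mk'_surjective (vc φ) y
        have hpre : (Nat.beq (CfsgLib.AltNineThree.cubeC x.c) 0 && !CfsgLib.AltNineThree.jC x.c) = true := by
          rw [E9.code_mk (by norm_num)]; decide +kernel
        have h := CfsgLib.AltNineThree.impB_elim (E9.all_spec out_lift x) hpre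
        rw [List.any_eq_true] at h
        obtain ⟨t, ht, h⟩ := h
        rw [Bool.and_eq_true] at h
        obtain ⟨a, ha⟩ := exists_u_lift x ⟨t, List.mem_range.1 ht⟩ h.1 h.2
        obtain ⟨b, hb⟩ := mk_range_of_comm D (g := g) (ZT.of_conj ha (zt_uRep D))
          (Subgroup.mem_centralizer_singleton_iff.1 hy)
        exact ⟨b, hb⟩
      choose b hb using hsub
      rw [← hlen, ← List.toFinset_card_of_nodup (List.Nodup.filter _ List.nodup_range),
        ← Nat.card_eq_finsetCard]
      refine Nat.card_le_card_of_injective (fun y => ⟨((b y).c : ℕ), ?_⟩) fun y y' h => ?_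
      · simp only [List.mem_toFinset, List.mem_filter, List.mem_range]
        refine ⟨(b y).c.isLt, ?_⟩
        have hc : x * b y = b y * x := psi_injective D (by
          rw [map_mul, map_mul, hb, Subgroup.mem_centralizer_singleton_iff.1 y.2])
        have := (E9.comm_iff _ _).2 hc
        rwa [E9.code_mk (by norm_num)] at this
      · have : b y = b y' := E9.code_inj (congrArg Subtype.val h)
        exact Subtype.ext (by rw [← hb, ← hb, this])
    have h27 := card_cent_A9 (e (psi D x)) (by rw [MulEquiv.orderOf_eq, hxo])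
    have hle' : Nat.card (Subgroup.centralizer ({e (psi D x)} : Set (alternatingGroup (Fin 9)))) ≤
        Nat.card (Subgroup.centralizer ({psi D x} : Set (cV φ ⧸ vc φ))) :=
      Nat.card_le_card_of_injective (fun y => ⟨e.symm y.1, Subgroup.mem_centralizer_singleton_iff.2 (e.injective (by
        rw [map_mul, map_mul, e.apply_symm_apply]
        exact Subgroup.mem_centralizer_singleton_iff.1 y.2))⟩) fun a b h =>
        Subtype.ext (e.symm.injective (congrArg Subtype.val h))
    omega

end CfsgLib.LFourThree.StrongII
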