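import Cfsg.Agent.Lib.LFourThree.StrongII.CentU
import Cfsg.Agent.Lib.AltNineThree.Classes

/-!
The centraliser in `SL(4,3)` of an element with two blocks of size two, modulo that element and the centre,
is the 648 element model of the normalizer in the alternating group of degree nine.
-/

set_option autoImplicit false
set_option maxRecDepth 100000
set_option linter.style.haveILetI false
set_option linter.unusedSectionVars false

namespace CfsgLib.LFourThree.StrongII

open Matrix
open CfsgLib.AltNineThree (E9)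

/-- Product in the model. -/
abbrev eMul (x y : ℕ) : ℕ := CfsgLib.AltNineThree.mulC x y

/-- The matrix code of an element of the model. -/
def fC (x : ℕ) : ℕ := slot fTab 32 x

/-- The codes of the kernel. -/
def tC (t : ℕ) : ℕ := [14408200, 28816400, 14410396, 28820792, 14412592, 28818596].getD t oneC

/-- Equality modulo the kernel. -/
def approxB (c d : ℕ) : Bool := (List.range 6).any fun t => Nat.beq c (mulC d (tC t))

/-- Generators of the model. -/
def gens : List ℕ := [1, 3, 9, 108, 243]

theorem f_gen : gens.all (fun g => (List.range 648).all fun y =>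
    approxB (mulC (fC g) (fC y)) (fC (eMul g y))) = true := by decide +kernel

theorem f_elt : (List.range 648).all (fun x => Nat.beq (detC (fC x)) 1 &&
    Nat.beq (mulC (fC x) (repCode 3)) (mulC (repCode 3) (fC x)) &&
    (Nat.beq x 0 || !approxB (fC x) oneC)) = true := by decide +kernel

theorem f_words : (List.range 24).all (fun w => Nat.beq
    ((CfsgLib.AltNineThree.wordL.getD w []).foldl (fun p b => eMul p (if b then 243 else 108)) 0) (27 * w))
    = true ∧ Nat.beq (fC 0) oneC = true ∧ (List.range 27).all (fun v => (List.range 24).all fun w =>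
      Nat.beq (eMul (eMul (eMul ([0, 1, 2].getD (v % 3) 0) ([0, 3, 6].getD (v / 3 % 3) 0))
        ([0, 9, 18].getD (v / 9) 0)) (27 * w)) (27 * w + v)) = true ∧
      Nat.beq (eMul 1 1) 2 = true ∧ Nat.beq (eMul 3 3) 6 = true ∧ Nat.beq (eMul 9 9) 18 = true := by
  decide +kernel

theorem packL_lt : ∀ l : List ℕ, packL l < 3 ^ l.length
  | [] => by simp [packL]
  | d :: l => by
    have := packL_lt l
    rw [List.length_cons, pow_succ]
    show d % 3 + 3 * packL l < _
    omega

/-- The code of a pair of blocks. -/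
def blkC (n : ℕ) : ℕ :=
  packL [ent n 0, ent n 1, ent n 4, ent n 5, ent n 2, ent n 3, ent n 6, ent n 7,
    0, 0, ent n 0, ent n 1, 0, 0, ent n 2, ent n 3]

theorem f_surj : (List.range 6561).all (fun n => !Nat.beq (detC (blkC n)) 1 ||
    (Nat.blt (slot sTab 12 n) 3888 &&
      Nat.beq (blkC n) (mulC (fC (slot sTab 12 n / 6)) (tC (slot sTab 12 n % 6))))) = true := by decide +kernel

/-- The element of `SL(4,3)` of an element of the model. -/
def fEl (x : E9) : SL4 :=
  elC (fC x.c) (Nat.eq_of_beq_eq_true (by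
    have h := List.all_eq_true.1 f_elt _ (List.mem_range.2 x.c.isLt)
    simp only [Bool.and_eq_true] at h
    exact h.1.1))

theorem fEl_val (x : E9) : (fEl x).1 = dec (fC x.c) := rfl

theorem fEl_comm (x : E9) : fEl x * pRep = pRep * fEl x := by
  have h := List.all_eq_true.1 f_elt _ (List.mem_range.2 x.c.isLt)
  simp only [Bool.and_eq_true] at h
  have e := Nat.eq_of_beq_eq_true h.1.2
  have h1 : (fEl x * pRep).1 = (pRep * fEl x).1 := by
    rw [Matrix.SpecialLinearGroup.coe_mul (fEl x) pRep, Matrix.SpecialLinearGroup.coe_mul pRep (fEl x), fEl_val,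
      rep_vals.2.2.2.1, ← dec_mulC, ← dec_mulC, e]
  exact Subtype.ext h1

/-- The kernel elements. -/
def tEl (t : Fin 6) : SL4 := pRep ^ (t.val / 2) * negOne ^ (t.val % 2)

theorem t_vals : ∀ t : Fin 6, dec (tC t) = (tEl t).1 := by decide +kernel

theorem tEl_comm (t : Fin 6) : tEl t * pRep = pRep * tEl t := by
  rw [tEl, mul_assoc,
    ((show Commute negOne pRep from (Subgroup.mem_center_iff.1 negOne_mem pRep).symm).pow_left _).eq,
    ← mul_assoc, ← mul_assoc, (Commute.refl pRep).pow_left _ |>.eq]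

theorem exists_of_approx {c d : ℕ} (h : approxB c d = true) : ∃ t : Fin 6, dec c = dec d * (tEl t).1 := by
  rw [approxB, List.any_eq_true] at h
  obtain ⟨t, ht, he⟩ := h
  refine ⟨⟨t, List.mem_range.1 ht⟩, ?_⟩
  rw [Nat.eq_of_beq_eq_true he, dec_mulC, ← t_vals ⟨t, _⟩]

theorem fEl_mul_gen {g : ℕ} (hg : g ∈ gens) (y : E9) :
    ∃ t, fEl (E9.mk' g) * fEl y = fEl (E9.mk' g * y) * tEl t := by
  have hlt : g < 648 := by
    simp only [gens, List.mem_cons, List.not_mem_nil, or_false] at hg
    omega
  have h := List.all_eq_true.1 (List.all_eq_true.1 f_gen g hg) _ (List.mem_range.2 y.c.isLt)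
  obtain ⟨t, ht⟩ := exists_of_approx h
  rw [dec_mulC] at ht
  refine ⟨t, Subtype.ext ?_⟩
  rw [Matrix.SpecialLinearGroup.coe_mul (fEl (E9.mk' g)) (fEl y),
    Matrix.SpecialLinearGroup.coe_mul (fEl (E9.mk' g * y)) (tEl t), fEl_val, fEl_val, fEl_val,
    E9.code_mul, E9.code_mk hlt]
  exact ht

theorem fEl_eq_tEl {x : E9} {t : Fin 6} (h : fEl x = tEl t) : x = 1 := by
  have hs := List.all_eq_true.1 f_elt _ (List.mem_range.2 x.c.isLt)
  simp only [Bool.and_eq_true, Bool.or_eq_true, Bool.not_eq_true'] at hs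
  rcases hs.2 with h0 | h0
  · exact E9.code_inj (Nat.eq_of_beq_eq_true h0)
  · exfalso
    have e : approxB (fC x.c) oneC = true := by
      simp only [approxB, List.any_eq_true, List.mem_range, Nat.beq_eq]
      refine ⟨t, t.isLt, ?_⟩
      have h1 : dec (fC x.c) = dec (mulC oneC (tC t)) := by
        rw [dec_mulC, dec_oneC, one_mul, t_vals t, ← fEl_val, h]
      have h2 : ∀ k : Fin 6, mulC oneC (tC k) = packL ((List.range 16).map fun i => ent (tC k) i) := by
        decide +kernel
      have h3 : ∀ k : Fin 648, fC k = packL ((List.range 16).map fun i => ent (fC k) i) := by decide +kernel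
      rw [h2 t, h3 x.c] at h1 ⊢
      exact dec_packL_inj (by simp) (by simp) h1
    rw [e] at h0
    exact absurd h0 (by simp)

theorem fEl_one : fEl 1 = 1 :=
  Subtype.ext (by rw [fEl_val, E9.code_one, Nat.eq_of_beq_eq_true f_words.2.1, dec_oneC]; rfl)

theorem gen_induction {P : E9 → Prop} (h1 : P 1) (hg : ∀ g ∈ gens, ∀ y, P y → P (E9.mk' g * y)) (x : E9) :
    P x := by
  let S : Submonoid E9 :=
    { carrier := {x | ∀ y, P y → P (x * y)}
      one_mem' := fun y hy => by rwa [one_mul]
      mul_mem' := fun {a b} ha hb y hy => by rw [mul_assoc]; exact ha _ (hb y hy) }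
  have hgS : ∀ g ∈ gens, E9.mk' g ∈ S := fun g hgg y hy => hg g hgg y hy
  obtain ⟨hw, -, hv, e1, e3, e9⟩ := f_words
  have hsq : ∀ g a, g ∈ gens → g < 648 → Nat.beq (eMul g g) a = true → a < 648 → E9.mk' a ∈ S := by
    intro g a hgg hl he ha
    rw [show E9.mk' a = E9.mk' g * E9.mk' g from E9.code_inj (by
      rw [E9.code_mul, E9.code_mk hl, E9.code_mk ha]; exact (Nat.eq_of_beq_eq_true he).symm)]
    exact S.mul_mem (hgS g hgg) (hgS g hgg)
  have h0 : E9.mk' 0 ∈ S := S.one_mem
  have hfold : ∀ (l : List Bool) (p : ℕ), p < 648 → E9.mk' p ∈ S →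
      l.foldl (fun p b => eMul p (if b then 243 else 108)) p < 648 ∧
      E9.mk' (l.foldl (fun p b => eMul p (if b then 243 else 108)) p) ∈ S := by
    intro l
    induction l with
    | nil => intro p hp hpS; exact ⟨hp, hpS⟩
    | cons b l ih =>
      intro p hp hpS
      have hb : (if b then 243 else 108 : ℕ) < 648 := by split <;> norm_num
      have hlt : eMul p (if b then 243 else 108) < 648 := E9.mulC_lt ⟨p, hp⟩ ⟨_, hb⟩
      refine ih _ hlt ?_
      rw [show E9.mk' (eMul p (if b then 243 else 108)) = E9.mk' p * E9.mk' (if b then 243 else 108) from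
        E9.code_inj (by rw [E9.code_mul, E9.code_mk hp, E9.code_mk hb, E9.code_mk hlt])]
      refine S.mul_mem hpS (hgS _ ?_)
      cases b <;> simp [gens]
  have hx : x ∈ S := by
    have hc := x.c.isLt
    set w := (x.c : ℕ) / 27
    set v := (x.c : ℕ) % 27
    have hvw := Nat.eq_of_beq_eq_true (List.all_eq_true.1 (List.all_eq_true.1 hv v
      (List.mem_range.2 (by omega))) w (List.mem_range.2 (by omega)))
    have hwS : E9.mk' (27 * w) ∈ S := by
      rw [← Nat.eq_of_beq_eq_true (List.all_eq_true.1 hw w (List.mem_range.2 (by omega)))]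
      exact (hfold _ 0 (by norm_num) h0).2
    have key : ∀ (g g2 r : ℕ), g ∈ gens → g < 648 → g2 < 648 → Nat.beq (eMul g g) g2 = true → r < 3 →
        [0, g, g2].getD r 0 < 648 ∧ E9.mk' ([0, g, g2].getD r 0) ∈ S := by
      intro g g2 r hgg hl hl2 he hr
      interval_cases r
      · exact ⟨Nat.zero_lt_succ _, h0⟩
      · exact ⟨hl, hgS g hgg⟩
      · exact ⟨hl2, hsq g g2 hgg hl he hl2⟩
    obtain ⟨la, ha⟩ := key 1 2 (v % 3) (by simp [gens]) (by norm_num) (by norm_num) e1 (by omega)
    obtain ⟨lb, hb⟩ := key 3 6 (v / 3 % 3) (by simp [gens]) (by norm_num) (by norm_num) e3 (by omega)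
    obtain ⟨lc, hc'⟩ := key 9 18 (v / 9) (by simp [gens]) (by norm_num) (by norm_num) e9 (by omega)
    have he : x = E9.mk' ([0, 1, 2].getD (v % 3) 0) * E9.mk' ([0, 3, 6].getD (v / 3 % 3) 0) *
        E9.mk' ([0, 9, 18].getD (v / 9) 0) * E9.mk' (27 * w) := E9.code_inj (by
      rw [E9.code_mul, E9.code_mul, E9.code_mul, E9.code_mk la, E9.code_mk lb, E9.code_mk lc,
        E9.code_mk (by omega)]
      refine Eq.trans ?_ hvw.symm
      omega)
    rw [he]
    exact S.mul_mem (S.mul_mem (S.mul_mem ha hb) hc') hwS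
  simpa using hx 1 h1

/-- Everything commuting with the element is in the model up to the kernel. -/
theorem exists_of_comm {s : SL4} (h : s * pRep = pRep * s) : ∃ (x : E9) (t : Fin 6), s = fEl x * tEl t := by
  have hm : s.1 * pRep.1 = pRep.1 * s.1 := congrArg Subtype.val h
  rw [show pRep.1 = !![1, 0, 1, 0; 0, 1, 0, 1; 0, 0, 1, 0; 0, 0, 0, 1] by decide +kernel] at hm
  have k := fun i j => congrFun (congrFun hm i) j
  have k00 := k 0 0; have k01 := k 0 1; have k02 := k 0 2; have k03 := k 0 3
  have k10 := k 1 0; have k11 := k 1 1; have k12 := k 1 2; have k13 := k 1 3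
  simp [Matrix.mul_apply, Fin.sum_univ_four] at k00 k01 k02 k03 k10 k11 k12 k13
  have e20 : s.1 2 0 = 0 := by linear_combination k00
  have e21 : s.1 2 1 = 0 := by linear_combination k01
  have e22 : s.1 2 2 = s.1 0 0 := by linear_combination -k02
  have e23 : s.1 2 3 = s.1 0 1 := by linear_combination -k03
  have e30 : s.1 3 0 = 0 := by linear_combination k10
  have e31 : s.1 3 1 = 0 := by linear_combination k11
  have e32 : s.1 3 2 = s.1 1 0 := by linear_combination -k12
  have e33 : s.1 3 3 = s.1 1 1 := by linear_combination -k13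
  set l := [(s.1 0 0).val, (s.1 0 1).val, (s.1 1 0).val, (s.1 1 1).val, (s.1 0 2).val, (s.1 0 3).val,
    (s.1 1 2).val, (s.1 1 3).val] with hl
  set n := packL l with hn
  have hlen : 3 ^ l.length = 6561 := by rw [hl]; simp only [List.length_cons, List.length_nil]; norm_num
  have hn' : n < 6561 := by
    rw [hn, ← hlen]
    exact packL_lt l
  have hs : s.1 = dec (blkC n) := by
    ext i j
    show _ = ((ent (packL _) (4 * i.val + j.val) : ℕ) : ZMod 3)
    rw [ent_packL]
    fin_cases i <;> fin_cases j <;>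
      simp [hn, hl, ent_packL, ZMod.natCast_mod, e20, e21, e22, e23, e30, e31, e32, e33]
  have hd : detC (blkC n) = 1 := by
    have h2 : ((detC (blkC n) : ℕ) : ZMod 3) = ((1 : ℕ) : ZMod 3) := by
      rw [← det_dec, ← hs, s.2, Nat.cast_one]
    have h3 := (ZMod.natCast_eq_natCast_iff' _ _ 3).1 h2
    have h4 : detC (blkC n) < 3 := Nat.mod_lt _ (by norm_num)
    omega
  have hchk := List.all_eq_true.1 f_surj n (List.mem_range.2 hn')
  rw [hd] at hchk
  simp only [Bool.or_eq_true, Bool.not_eq_true', Bool.and_eq_true, Nat.beq_eq] at hchk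
  obtain ⟨hlt, he⟩ := hchk.resolve_left (by decide)
  have hlt' : slot sTab 12 n < 3888 := Nat.le_of_ble_eq_true hlt
  generalize slot sTab 12 n = r at he hlt'
  refine ⟨E9.mk' (r / 6), ⟨r % 6, Nat.mod_lt _ (by norm_num)⟩, Subtype.ext ?_⟩
  rw [Matrix.SpecialLinearGroup.coe_mul (fEl (E9.mk' (r / 6))) (tEl ⟨r % 6, _⟩), fEl_val, ← t_vals,
    E9.code_mk (by omega), ← dec_mulC, ← he, hs]

end CfsgLib.LFourThree.StrongII
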